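import Cfsg.Agent.KM.Ex.One
import Cfsg.Agent.H931.KC.Alcove

/-!
# KM, Kac coordinates for the exceptional frames (helper14)

* `kac` : an exponent modulo `l ^ j` is of Levi type, or its Kac coordinates live on the nodes `i` with `l ∣ hr i`;
* `lev_of` : `Tor.Lev X.D l` for the good primes; `nl_of`, `two_of` : `NL`, `Two` if there is one bad node.
-/

set_option autoImplicit false
set_option linter.unusedSectionVars false
set_option maxRecDepth 100000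

namespace Cfsg.Agent.KM.Ex

open Cfsg Cfsg.Lie Matrix Finset Cfsg.Agent.DL Cfsg.Agent.KZ.DatX Cfsg.Agent.Nodes.RGDChev
  Cfsg.Agent.ChevalleyStructure.NPerm Cfsg.Agent.ChevalleyStructure.CoxeterGeom Cfsg.Agent.Tits.Roots
open Cfsg.Agent.H931.KC (hr Kac exists_alcove dvd_iff exists_ok isRoot_hr)

variable {C : ChevalleyDatum} {n : ℕ} {M : CoxeterMatrix (Fin n)} (hp : IsType C n M)

/-- the roots -/
abbrev RR (a : Fin n → ℤ) : Prop := IsRoot M.toCoxeterSystem hp.isCartan a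

/-- the action on the roots -/
abbrev rp (w : M.Group) (a : Fin n → ℤ) : Fin n → ℤ := rep M.toCoxeterSystem hp.isCartan w a

/-- `Lv` in coordinates -/
def LvR (m : ℤ) (u : Fin n → ℤ) : Prop :=
  ∃ c : ℤ, IsCoprime c m ∧ ∃ v, ∀ a, RR hp a → m ∣ a ⬝ᵥ u → a ⬝ᵥ (c • u + m • v) = 0

/-- the transposed action -/
def trW (w : M.Group) (u : Fin n → ℤ) : Fin n → ℤ := fun i => rp hp w (sr i) ⬝ᵥ u

theorem dot_trW (w : M.Group) (u x : Fin n → ℤ) : x ⬝ᵥ trW hp w u = rp hp w x ⬝ᵥ u :=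
  (H931.KC.eq_psi ((H931.KC.psi u).comp (rep M.toCoxeterSystem hp.isCartan w).toAddMonoidHom) x).symm

theorem sr_dot (i : Fin n) (u : Fin n → ℤ) : sr i ⬝ᵥ u = u i := H931.KC.psi_sr u i

theorem rr_rp (w : M.Group) {a : Fin n → ℤ} (h : RR hp a) : RR hp (rp hp w a) := by
  obtain ⟨v, i, rfl⟩ := h
  exact ⟨w * v, i, (rep_mul_apply ..).symm⟩

theorem LvR.of_tr {m : ℤ} {u c : Fin n → ℤ} (w : M.Group) (h : ∀ x, m ∣ x ⬝ᵥ c - rp hp w x ⬝ᵥ u) (h1 : LvR hp m c) :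
    LvR hp m u := by
  obtain ⟨e, h2, v, h3⟩ := h1
  choose d hd using fun i => h (sr i)
  have h4 : c = trW hp w u + m • d := funext fun i => by
    have := hd i
    rw [sr_dot] at this
    exact eq_add_of_sub_eq' this
  refine ⟨e, h2, trW hp w⁻¹ (e • d + v), fun a ha h5 => ?_⟩
  have h6 : rp hp w (rp hp w⁻¹ a) = a := rep_apply_inv ..
  have h7 := h3 _ (rr_rp hp w⁻¹ ha) ((dvd_iff_dvd_of_dvd_sub (h (rp hp w⁻¹ a))).2 (h6.symm ▸ h5))
  rw [h4] at h7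
  simp only [dotProduct_add, dotProduct_smul, dot_trW, h6, smul_eq_mul] at h7 ⊢
  linear_combination h7

theorem lvR_of_pos {m e : ℤ} {c v : Fin n → ℤ} (he : IsCoprime e m)
    (h : ∀ a, RR hp a → 0 ≤ a → m ∣ a ⬝ᵥ c → a ⬝ᵥ (e • c + m • v) = 0) : LvR hp m c :=
  ⟨e, he, v, fun a ha h1 => ha.pos_or_neg.elim (fun h2 => h a ha h2 h1) fun h2 => by
    have := h (-a) ha.neg (neg_nonneg.2 h2) (by rwa [neg_dotProduct, dvd_neg])
    rwa [neg_dotProduct, neg_eq_zero] at this⟩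

theorem dot_congr {a b : Fin n → ℤ} {c : Fin n → ℕ} (h : ∀ i, a i ≠ b i → c i = 0) :
    (a ⬝ᵥ fun i => (c i : ℤ)) = b ⬝ᵥ fun i => (c i : ℤ) :=
  sum_congr rfl fun i _ => (em (a i = b i)).elim (fun e => by rw [e]) fun e => by simp only [h i e, Nat.cast_zero, mul_zero]

variable {l : ℕ}

/-- **Levi type, or Kac coordinates on the bad nodes** -/
theorem kac (hl : l.Prime) (j : ℕ) (u : Fin n → ℤ) : LvR hp ((l : ℤ) ^ j) u ∨ ∃ (w : M.Group) (c : Fin n → ℕ),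
    (hr C n ⬝ᵥ fun i => (c i : ℤ)) = (l : ℤ) ^ j ∧ (∀ i, ¬ (l : ℤ) ∣ hr C n i → c i = 0) ∧
      ∀ x, (l : ℤ) ^ j ∣ (x ⬝ᵥ fun i => (c i : ℤ)) - rp hp w x ⬝ᵥ u := by
  obtain ⟨w, c, c0, K, h⟩ := exists_alcove hp (pow_pos hl.pos j) (H931.KC.psi u)
  have h1 := fun a ha h0 => (dvd_iff hp K (a := a) ha h0).1
  have h2 := K.sum
  rw [Nat.cast_pow] at h h1 h2
  by_cases h3 : c0 = 0
  · rw [h3, Nat.cast_zero, zero_add] at h2
    by_cases h4 : ∀ i, ¬ (l : ℤ) ∣ hr C n i → c i = 0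
    · exact .inr ⟨w, c, h2, h4, h⟩
    push Not at h4
    obtain ⟨i, h4, h5⟩ := h4
    refine .inl (LvR.of_tr hp w h (lvR_of_pos hp (e := hr C n i) (v := -sr i)
      (((Nat.prime_iff_prime_int.1 hl).coprime_iff_not_dvd.2 h4).symm.pow_right) fun a ha h0 h6 => ?_))
    rw [dotProduct_add, dotProduct_smul, dotProduct_smul, dotProduct_neg, dotProduct_comm a (sr i), sr_dot]
    rcases h1 a ha h0 h6 with h7 | ⟨-, h7⟩
    · rw [dot_congr (b := 0) h7, zero_dotProduct, by_contra fun e => h5 (h7 i e), smul_zero, neg_zero, smul_zero, add_zero]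
    · rw [dot_congr h7, by_contra fun e => h5 (h7 i e), show (hr C n ⬝ᵥ fun i => (c i : ℤ)) = _ from h2, smul_eq_mul,
        smul_eq_mul]
      ring
  · refine .inl (LvR.of_tr hp w h (lvR_of_pos hp (v := 0) isCoprime_one_left fun a ha h0 h6 => ?_))
    rw [one_smul, smul_zero, add_zero, dot_congr (b := 0) ((h1 a ha h0 h6).resolve_right fun e => h3 e.1), zero_dotProduct]

theorem lvR_good (hl : l.Prime) (h : ∀ i, ¬ (l : ℤ) ∣ hr C n i) (j : ℕ) (u : Fin n → ℤ) : LvR hp ((l : ℤ) ^ j) u :=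
  (kac hp hl j u).resolve_right fun ⟨_, _, h1, h2, _⟩ => by
    rw [dot_congr (b := 0) fun i _ => h2 i (h i), zero_dotProduct] at h1
    exact pow_ne_zero j (Int.natCast_ne_zero.2 hl.ne_zero) h1.symm

/-- one bad node -/
def Bad (C : ChevalleyDatum) (n l : ℕ) (i : Fin n) : Prop := hr C n i = l ∧ ∀ m, m ≠ i → ¬ (l : ℤ) ∣ hr C n m

instance Bad.dec (i : Fin n) : Decidable (Bad C n l i) := by unfold Bad; infer_instance

variable {i : Fin n}

theorem dot_one {c : Fin n → ℤ} (h : ∀ m, m ≠ i → c m = 0) (x : Fin n → ℤ) : x ⬝ᵥ c = x i * c i :=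
  sum_eq_single i (fun m _ hm => by rw [h m hm, mul_zero]) fun e => (e (mem_univ _)).elim

theorem kac_one (hl : l.Prime) (hB : Bad C n l i) (j : ℕ) (u : Fin n → ℤ) :
    LvR hp ((l : ℤ) ^ j) u ∨ ∃ w : M.Group, ∀ x, (l : ℤ) ^ j ∣ rp hp w x ⬝ᵥ u ↔ (l : ℤ) ∣ x i :=
  (kac hp hl j u).imp_right fun ⟨w, c, h1, h2, h3⟩ => ⟨w, fun x => by
    have e := dot_one (c := fun m => (c m : ℤ)) fun m hm => by rw [h2 m (hB.2 m hm), Nat.cast_zero]
    rw [e, hB.1] at h1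
    rw [← dvd_iff_dvd_of_dvd_sub (h3 x), e, ← h1]
    exact mul_dvd_mul_iff_right fun e' => pow_ne_zero j (Int.natCast_ne_zero.2 hl.ne_zero) (by rw [← h1, e', mul_zero])⟩

theorem nlR (hl : l.Prime) (hB : Bad C n l i) (j : ℕ) (u v : Fin n → ℤ) (hv : v ≠ 0)
    (h : ∀ a, RR hp a → (l : ℤ) ^ j ∣ a ⬝ᵥ u → a ⬝ᵥ v = 0) : LvR hp ((l : ℤ) ^ j) u :=
  (kac_one hp hl hB j u).resolve_right fun ⟨w, h1⟩ => hv (by
    obtain ⟨_, _, _, _, H⟩ := exists_ok hp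
    have h2 : ∀ x, RR hp x → (l : ℤ) ∣ x i → x ⬝ᵥ trW hp w v = 0 := fun x hx e =>
      (dot_trW hp w v x).trans (h _ (rr_rp hp w hx) ((h1 x).2 e))
    have h3 : ∀ m, m ≠ i → trW hp w v m = 0 := fun m hm =>
      (sr_dot m _).symm.trans (h2 _ (isRoot_sr _ _ m) (by rw [sr_ne hm.symm]; exact dvd_zero _))
    have h4 := h2 _ (isRoot_hr hp H) hB.1.symm.dvd
    rw [dot_one h3, hB.1, mul_eq_zero, or_iff_right (Int.natCast_ne_zero.2 hl.ne_zero)] at h4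
    have h5 : trW hp w v = 0 := funext fun m => (em (m = i)).elim (fun e => e ▸ h4) (h3 m)
    funext m
    have h6 := dot_trW hp w v (rp hp w⁻¹ (sr m))
    rw [h5, dotProduct_zero, show rp hp w (rp hp w⁻¹ (sr m)) = sr m from rep_apply_inv .., sr_dot] at h6
    exact h6.symm)

/-- the number of roots which vanish on an isolated element -/
theorem card_is (hl : l.Prime) (hB : Bad C n l i) {u : Fin n → ℤ}
    (h : ∀ v, (∀ a, RR hp a → (l : ℤ) ∣ a ⬝ᵥ u → a ⬝ᵥ v = 0) → v = 0) (h0 : ¬ ∀ r, (l : ℤ) ∣ u r) :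
    #{r : Fin C.nroots | (l : ℤ) ∣ vec C n r ⬝ᵥ u} = #{r : Fin C.nroots | (l : ℤ) ∣ vec C n r i} := by
  have h1 := kac_one hp hl hB 1 u
  rw [pow_one] at h1
  rcases h1 with ⟨c, h1, v, h2⟩ | ⟨w, h1⟩
  · refine (h0 fun r => h1.symm.dvd_of_dvd_mul_left ⟨-v r, ?_⟩).elim
    have := congrFun (h _ h2) r
    simp only [Pi.add_apply, Pi.smul_apply, smul_eq_mul, Pi.zero_apply] at this
    linear_combination this
  · obtain ⟨π, hπ⟩ := H994.KE.exists_perm hp w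
    exact (card_equiv π fun r => by simp only [mem_filter, mem_univ, true_and, hπ, h1]).symm

/-- **the double count** -/
theorem dcount {ι : Type} [Fintype ι] [NeZero l] (α β : ι → ZMod l) {N : ℕ}
    (h : ∀ q : ZMod l × ZMod l, q ≠ 0 → #{r | q.1 * α r + q.2 * β r = 0} = N)
    (h1 : ∀ a b : ZMod l, l ≤ #{q : ZMod l × ZMod l | q.1 * a + q.2 * b = 0}) (h2 : 1 < l)
    (h3 : (l * l - 1) * N + Fintype.card ι = Fintype.card ι * l) (r : ι) (ha : α r = 0) : β r ≠ 0 := fun hb => by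
  have e : ∑ q : ZMod l × ZMod l, #{r | q.1 * α r + q.2 * β r = 0} =
      ∑ r, #{q : ZMod l × ZMod l | q.1 * α r + q.2 * β r = 0} := by
    simp only [card_filter]
    exact sum_comm
  rw [← sum_erase_add _ _ (mem_univ 0), sum_congr rfl fun q hq => h q (ne_of_mem_erase hq), sum_const,
    card_erase_of_mem (mem_univ _)] at e
  simp only [Prod.fst_zero, Prod.snd_zero, zero_mul, add_zero, filter_true, card_univ, Fintype.card_prod, ZMod.card,
    smul_eq_mul, h3] at e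
  refine (e ▸ sum_lt_sum (s := univ) (f := fun _ => l) (fun s _ => h1 _ _) ⟨r, mem_univ _, ?_⟩).ne ?_
  · simp only [ha, hb, mul_zero, add_zero, filter_true, card_univ, Fintype.card_prod, ZMod.card]
    exact (Nat.lt_mul_iff_one_lt_left (by omega)).2 h2
  · rw [sum_const, card_univ, smul_eq_mul]

/-- the combinatorial condition behind `Two` -/
def TwoC (C : ChevalleyDatum) (n l : ℕ) (i : Fin n) : Prop := ∀ u u' : Fin n → ℤ,
  (∀ a b : ℤ, ¬ ((l : ℤ) ∣ a ∧ (l : ℤ) ∣ b) → #{r : Fin C.nroots | (l : ℤ) ∣ vec C n r ⬝ᵥ (a • u + b • u')} =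
    #{r : Fin C.nroots | (l : ℤ) ∣ vec C n r i}) → ∀ r : Fin C.nroots, (l : ℤ) ∣ vec C n r ⬝ᵥ u → ¬ (l : ℤ) ∣ vec C n r ⬝ᵥ u'

theorem twoC_cast [NeZero l] {u u' : Fin n → ℤ} {N : ℕ} (h : ∀ a b : ℤ, ¬ ((l : ℤ) ∣ a ∧ (l : ℤ) ∣ b) →
    #{r : Fin C.nroots | (l : ℤ) ∣ vec C n r ⬝ᵥ (a • u + b • u')} = N) (q : ZMod l × ZMod l) (hq : q ≠ 0) :
    #{r : Fin C.nroots | q.1 * ((vec C n r ⬝ᵥ u : ℤ) : ZMod l) + q.2 * ((vec C n r ⬝ᵥ u' : ℤ) : ZMod l) = 0} = N := by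
  obtain ⟨a, b⟩ := q
  obtain ⟨a, rfl⟩ := ZMod.intCast_surjective a
  obtain ⟨b, rfl⟩ := ZMod.intCast_surjective b
  rw [← h a b fun e => hq (Prod.ext ((ZMod.intCast_zmod_eq_zero_iff_dvd _ _).2 e.1)
    ((ZMod.intCast_zmod_eq_zero_iff_dvd _ _).2 e.2))]
  refine congrArg card (filter_congr fun r _ => ?_)
  rw [← ZMod.intCast_zmod_eq_zero_iff_dvd, dotProduct_add, dotProduct_smul, dotProduct_smul, smul_eq_mul, smul_eq_mul,
    Int.cast_add, Int.cast_mul, Int.cast_mul]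

theorem twoC_of [NeZero l] (h1 : ∀ a b : ZMod l, l ≤ #{q : ZMod l × ZMod l | q.1 * a + q.2 * b = 0}) (h2 : 1 < l)
    (h3 : (l * l - 1) * #{r : Fin C.nroots | (l : ℤ) ∣ vec C n r i} + C.nroots = C.nroots * l) : TwoC C n l i :=
  fun _ _ h r e e' => dcount _ _ (twoC_cast h) h1 h2 (by rwa [Fintype.card_fin]) r
    ((ZMod.intCast_zmod_eq_zero_iff_dvd _ _).2 e) ((ZMod.intCast_zmod_eq_zero_iff_dvd _ _).2 e')

theorem bad_G2 : Bad chevG2 2 3 0 := by decide +kernel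
theorem bad_F4 : Bad chevF4 4 3 2 := by decide +kernel
theorem bad_E6 : Bad chevE6 6 3 3 := by decide +kernel
theorem bad_E8 : Bad chevE8 8 5 4 := by decide +kernel

theorem twoC_F4 : TwoC chevF4 4 3 2 := twoC_of (by decide +kernel) (by decide) (by decide +kernel)
theorem twoC_E6 : TwoC chevE6 6 3 3 := twoC_of (by decide +kernel) (by decide) (by decide +kernel)
theorem twoC_E8 : TwoC chevE8 8 5 4 := twoC_of (by decide +kernel) (by decide) (by decide +kernel)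

theorem twoC_G2 : TwoC chevG2 2 3 0 := fun u u' h => by
  have h1 : ∀ a b c d : ZMod 3, ∃ q : ZMod 3 × ZMod 3, q ≠ 0 ∧ #{r : Fin chevG2.nroots |
      q.1 * (vec chevG2 2 r 0 * a + vec chevG2 2 r 1 * b) + q.2 * (vec chevG2 2 r 0 * c + vec chevG2 2 r 1 * d) = 0} ≠
      #{r : Fin chevG2.nroots | ((3 : ℕ) : ℤ) ∣ vec chevG2 2 r 0} := by decide +kernel
  obtain ⟨q, h2, h3⟩ := h1 (u 0) (u 1) (u' 0) (u' 1)
  refine (h3 (Eq.trans ?_ (twoC_cast h q h2))).elim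
  simp only [dotProduct, Fin.sum_univ_two, Int.cast_add, Int.cast_mul]

variable {hp} {r : ℕ} [Fact r.Prime] {k : Type} [Field k] [CharP k r] [IsAlgClosed k] {Mx : Matrix (Fin n) (Fin n) ℤ}
  (X : XF hp r k Mx)

theorem rt_rr (a : Fin n → ℤ) : X.D.Rt a ↔ RR hp a := (X.rt_iff a).trans (isRoot_iff hp _ a).symm

theorem lv_of {m : ℤ} {u : Fin n → ℤ} (h : LvR hp m u) : Tor.Lv X.D m u :=
  h.imp fun _ h => ⟨h.1, h.2.imp fun _ h a ha => h a ((rt_rr X a).1 ha)⟩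

/-- **good primes** -/
theorem lev_of (hl : l.Prime) (h : ∀ i, ¬ (l : ℤ) ∣ hr C n i) : Tor.Lev X.D l := fun j u => lv_of X (lvR_good hp hl h j u)

theorem nl_of (hl : l.Prime) (hB : Bad C n l i) : NL X.D l := fun j u v hv h =>
  lv_of X (nlR hp hl hB j u v hv fun a ha => h a ((rt_rr X a).2 ha))

theorem two_of (hl : l.Prime) (hB : Bad C n l i) (hT : TwoC C n l i) : Two X.D l := fun u u' h a ha => by
  obtain ⟨s, hs, rfl⟩ := (X.rt_iff a).1 ha
  exact hT u u' (fun a b e => card_is hp hl hB (fun v hv => (h a b e).1 v fun a ha => hv a ((rt_rr X a).1 ha)) (h a b e).2) ⟨s, hs⟩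

end Cfsg.Agent.KM.Ex
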