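import Cfsg.Agent.KM.Core
import Cfsg.Agent.KM.Tr
import Cfsg.Agent.KM.Nt
import Cfsg.Agent.KM.Tor.Gen
import Cfsg.Agent.TO.X.Mult
import Cfsg.Agent.S1059
import Cfsg.Agent.S1062

/-!
# KM, the exceptional rows from the frames (helper14)

* `TorB X l` : `TorOr` for non-cyclic defect groups of order at least `l ^ 3`; `TX hp Mx l` : the same for all frames;
* `row_xs` : a row if all covers are trivial; `row_g2`, `row_f4`, `row_e8`, `row_td4`, `row_tf4`, `row_e6`, `row_te6`, `row_e7`.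
-/

set_option autoImplicit false
set_option linter.unusedSectionVars false

namespace Cfsg.Agent.KM.Ex

open Cfsg Cfsg.Lie Cfsg.Agent.DL Cfsg.Agent.KZ.DatX Cfsg.Agent.Nodes.RGDChev Cfsg.Agent.ChevalleyStructure.NPerm
open Cfsg.Agent.TO.X (ZD)

section Dat

variable {p : ℕ} [Fact p.Prime] {k : Type} [Field k] [CharP k p] {Y : Type} [Group Y] {N : Type} [Fintype N]
  [DecidableEq N] {ρ : Y →* GL N k} {F : MulAut Y} {G : Subgroup Y} [IsAlgClosed k]

/-- every large abelian defect group is toral, or the heights vanish -/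
def TorB (X : Datum p ρ F G) (l : ℕ) : Prop :=
  ∀ (M : Ideal AlgInt) (B : Set (IrrCharacter ↥(GF F G))) (D : Subgroup ↥(GF F G)), IsPModular l M → IsPBlock M B →
    IsDefectGroup l M B D → IsMulCommutative D → ¬ IsCyclic D → l ^ 3 ∣ Nat.card D →
    Ht.Toral X (D.map (GF F G).subtype) ∨ BK.HZ l B

variable {X : Datum p ρ F G} {l : ℕ}

theorem TorB.torOr [Fact l.Prime] (h : TorB X l) : TorOr X l := fun M B D hM hB hD hA => by
  have := X.amb.finite_GF G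
  by_cases h1 : IsCyclic D
  · exact .inr (TID.Blk.height_cyclic hM hB hD h1)
  by_cases h2 : blockDefect l B ≤ 2
  · exact .inr (TID.Blk.height_small hM hB h2)
  exact h M B D hM hB hD hA h1 (S0908.result l M hM B hB D hD ▸ pow_dvd_pow l (by omega))

theorem torB_of_torOr (h : TorOr X l) : TorB X l := fun M B D h1 h2 h3 h4 _ _ => h M B D h1 h2 h3 h4

theorem torB_of_lev {f : ℕ} (h : TO.X.Cn.Pi1 X f) (hl : l.Prime) (hp : l ≠ p) (hf : l.Coprime f) (hL : Tor.Lev X l) :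
    TorB X l := fun _ _ _ _ _ hD hA _ _ =>
  have := X.amb.finite_GF G
  have := Fact.mk hl
  .inl (Tor.toral h hl hp hf hL (H592.Defect.isPGroup_of_isDefectGroup hD) hA)

end Dat

variable {C : ChevalleyDatum} {n : ℕ} {M : CoxeterMatrix (Fin n)} {l : ℕ} [Fact l.Prime] {S : Type} [Group S] [Finite S]

/-- `TorB` for the frames with the matrix `r ^ e • B` -/
def TX (hp : IsType C n M) (B : Matrix (Fin n) (Fin n) ℤ) (l : ℕ) : Prop :=
  ∀ (r e : ℕ) [Fact r.Prime] (k : Type) [Field k] [CharP k r] [IsAlgClosed k] (X : XF hp r k ((r : ℤ) ^ e • B)),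
    0 < e → l ≠ r → TorB X.D l

theorem kmg_xs {hp : IsType C n M} {r : ℕ} [Fact r.Prime] {k : Type} [Field k] [CharP k r] [IsAlgClosed k]
    {Mx : Matrix (Fin n) (Fin n) ℤ} {X : XF hp r k Mx} {Adm : Matrix (Fin n) (Fin n) ℤ → Prop} {d : ℕ} (s : XS X Adm d S)
    (hr : l ≠ r) (hd : ¬ l ∣ d) (h : TorB X.D l) {I : Ideal AlgInt} (hI : IsPModular l I) : BK.KMg l I S :=
  have := X.finite
  have := s.ov.normal
  kmg_equiv hI (MonoidHom.ofInjective s.ov.hom_inj).symm (kmg_index hI _ (fun e => hd (s.ov.prime_dvd Fact.out e))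
    (kmg_of_tor X.D_qs Fact.out hr h.torOr hI))

/-- the covers with centre of order prime to `l` are trivial -/
theorem row_of_zd {a : ℕ} (hZ : ZD (l ^ a) S) (h : ∀ I, IsPModular l I → BK.KMg l I S) : Row l S :=
  fun K _ _ σ I B D H => by
    have h1 := hZ K σ H.qs.1.commutator_eq_top H.surj H.ker H.cyc
    have h2 : Nat.card (Subgroup.center K) = 1 :=
      (Nat.coprime_self _).1 (((Fact.out : l.Prime).coprime_iff_not_dvd.2 H.zp).pow_left a |>.coprime_dvd_left h1)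
    exact kmg_equiv H.hM (MulEquiv.ofBijective σ ⟨(MonoidHom.ker_eq_bot_iff σ).1
      (H.ker.trans (Subgroup.card_eq_one.1 h2)), H.surj⟩).symm (h I H.hM) B D H.hB H.hD H.ab

theorem row_nt {hp : IsType C n M} {B : Matrix (Fin n) (Fin n) ℤ} (hT : TX hp B l) {r e d a : ℕ} [Fact r.Prime]
    (h : Nt.HasNT hp r ((r : ℤ) ^ e • B) d S) (he : 0 < e) (hr : l ≠ r) (hd : ¬ l ∣ d) (hZ : ZD (l ^ a) S) : Row l S := by
  obtain ⟨k, _, _, _, X, -, ⟨s⟩⟩ := h
  exact row_of_zd hZ fun _ hI => kmg_xs s hr hd (hT r e k X he hr) hI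

theorem not_dvd_one' : ¬ l ∣ 1 := (Fact.out : l.Prime).not_dvd_one

/-- `G₂(q)` for the two fields with an exceptional multiplier -/
def XG (q l : ℕ) : Prop := ∀ (F : Type) [Field F] [Fintype F], Fintype.card F = q → Row l ↥(chevG2.group F)

/-- `F₄(2)` -/
def XF2 (l : ℕ) : Prop := ∀ (F : Type) [Field F] [Fintype F], Fintype.card F = 2 → Row l ↥(chevF4.group F)

theorem row_g2 (hT : TX hpG2 1 l) (h3 : l ≠ 3 → XG 3 l) (h4 : l ≠ 2 → XG 4 l) (h : CG2 l S) : Row l S := by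
  obtain ⟨r, e, _, hr, he, -, h1⟩ := Nt.row_G2 h
  obtain ⟨F, _, _, h2, h5, ⟨i⟩⟩ := h
  have h6 : ∀ a j : ℕ, a.Prime → Fintype.card F = a ^ j → l ≠ a := by
    rintro a j ha e rfl
    exact h2 (pow_eq_zero_iff (by rintro rfl; rw [pow_zero] at e; omega) |>.1 (by
      rw [← Nat.cast_pow, ← e, FiniteField.cast_card_eq_zero] : (l : F) ^ j = 0))
  obtain h7 | h7 | h7 : Fintype.card F = 3 ∨ Fintype.card F = 4 ∨ 5 ≤ Fintype.card F := by omega
  · exact Row.of_equiv i (h3 (h6 3 1 Nat.prime_three h7) F h7)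
  · exact Row.of_equiv i (h4 (h6 2 2 Nat.prime_two h7) F h7)
  · exact row_nt hT h1 he hr not_dvd_one' (a := 0) ((TO.X.zd_G2 h7).congr i)

theorem row_f4 (hT : TX hpF4 1 l) (h2 : l ≠ 2 → XF2 l) (h : CF4 l S) : Row l S := by
  obtain ⟨r, e, _, hr, he, h1⟩ := Nt.row_F4 h
  obtain ⟨F, _, _, h3, ⟨i⟩⟩ := h
  by_cases h4 : Fintype.card F = 2
  · refine Row.of_equiv i (h2 ?_ F h4)
    rintro rfl
    exact h3 (h4 ▸ FiniteField.cast_card_eq_zero F)
  · exact row_nt hT h1 he hr not_dvd_one' (a := 0) ((TO.X.zd_F4 h4).congr i)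

theorem row_e8 (hT : TX hpE8 1 l) (h : CE8 l S) : Row l S := by
  obtain ⟨r, e, _, hr, he, h1⟩ := Nt.row_E8 h
  obtain ⟨F, _, _, -, ⟨i⟩⟩ := h
  exact row_nt hT h1 he hr not_dvd_one' (a := 0) (TO.X.zd_E8.congr i)

theorem row_td4 (hT : TX hpD4 P4 l) (h : CTd4 l S) : Row l S := by
  obtain ⟨r, e, _, hr, he, h1⟩ := Nt.row_3D4 h
  obtain ⟨F, _, _, q, -, hq, hF, ⟨i⟩⟩ := h
  exact row_nt hT h1 he hr not_dvd_one' (a := 0) ((TO.X.zd_3D4 hq hF).congr i)

/-- `TorB` for the frames of the large Ree groups -/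
def TR (l : ℕ) : Prop :=
  ∀ (m : ℕ) (k : Type) [Field k] [CharP k 2] [IsAlgClosed k] (X : XF hpF4 2 k ((2 : ℤ) ^ m • GamF)), 1 ≤ m → TorB X.D l

theorem row_tf4 (hT : TR l) (h : CTf4 l S) : Row l S := by
  obtain ⟨m, hm, k, _, _, _, X, -, ⟨s⟩⟩ := Nt.row_2F4 h.2
  exact row_of_zd (a := 0) (TO.X.zd_iso2F4 h.2) fun _ hI => kmg_xs s h.1 not_dvd_one' (hT m k X hm) hI

/-! ### the small groups at the primes `l ≥ 5` -/

theorem not_cube {N : ℕ} (h5 : 5 ≤ l) (a b : ℕ) {m : ℕ} (e : N = 2 ^ a * 3 ^ b * m) (hm : ∀ x ≤ 17, 5 ≤ x → ¬ x ^ 3 ∣ m)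
    (L : List ℕ) (hL : m = L.prod) (h17 : ∀ x ∈ L, 0 < x ∧ x ≤ 17) : ¬ l ^ 3 ∣ N := fun h => by
  have hl : l.Prime := Fact.out
  have h1 : (l ^ 3).Coprime (2 ^ a * 3 ^ b) := Nat.Coprime.pow_left 3 (Nat.Coprime.mul_right
    (((Nat.coprime_primes hl Nat.prime_two).2 (by omega)).pow_right a)
    (((Nat.coprime_primes hl Nat.prime_three).2 (by omega)).pow_right b))
  have h2 := h1.dvd_of_dvd_mul_left (e ▸ h)
  obtain ⟨x, hx, h3⟩ := (Prime.dvd_prod_iff hl.prime).1 (hL ▸ (dvd_pow_self l three_ne_zero).trans h2)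
  exact hm l ((Nat.le_of_dvd (h17 x hx).1 h3).trans (h17 x hx).2) h5 h2

theorem xG3 (h5 : 5 ≤ l) : XG 3 l := fun F _ _ h =>
  boxSmall l _ (.inl (not_cube h5 6 6 (m := 91) (S1059.result h) (by decide) [7, 13] rfl (by decide)))

theorem xG4 (h5 : 5 ≤ l) : XG 4 l := fun F _ _ h =>
  boxSmall l _ (.inl (not_cube h5 12 3 (m := 2275) (S1059.result h) (by decide) [5, 5, 7, 13] rfl (by decide)))

theorem xF2 (h5 : 5 ≤ l) : XF2 l := fun F _ _ h =>
  boxSmall l _ (.inl (not_cube h5 24 6 (m := 270725) (S1062.result h) (by decide) [5, 5, 7, 7, 13, 17] rfl (by decide)))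

end Cfsg.Agent.KM.Ex
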