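import Cfsg.Agent.KM.Ex.Kac
import Cfsg.Agent.KM.Xc.G24
import Cfsg.Agent.LV.Red.Ab

/-!
# KM, the exceptional rows at odd primes (helper14)

* `lev_G2 … lev_E8` : `Tor.Lev` at the good primes; `tx_good`;
* `od_g2 : RowFor (Od CG2)`, `od_td4 : RowFor (Od CTd4)`, `row_ctf4 : RowFor CTf4`, `od_f4 (XF2 3)`, `e8_ge`, `od_e8`.
-/

set_option autoImplicit false
set_option linter.unusedSectionVars false
set_option maxRecDepth 100000

namespace Cfsg.Agent.KM.Ex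

open Cfsg Cfsg.Lie Cfsg.Agent.DL Cfsg.Agent.KZ.DatX Cfsg.Agent.Nodes.RGDChev Cfsg.Agent.ChevalleyStructure.NPerm
open Cfsg.Agent.TO.X (ZD)
open Cfsg.Agent.TO.X.Cn (PM pi1 pm_G2 pm_F4 pm_D4 pm_E8)
open Cfsg.Agent.H931.KC (hr)

variable {C : ChevalleyDatum} {n : ℕ} {M : CoxeterMatrix (Fin n)} {l : ℕ} {S : Type} [Group S]

section

variable {r : ℕ} [Fact r.Prime] {k : Type} [Field k] [CharP k r] [IsAlgClosed k]

theorem lev_ge {hp : IsType C n M} {Mx : Matrix (Fin n) (Fin n) ℤ} (X : XF hp r k Mx) (hl : l.Prime) (b : ℕ)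
    (h : ∀ i, 0 < hr C n i ∧ hr C n i < b) (hb : b ≤ l) : Tor.Lev X.D l :=
  lev_of X hl fun i e => (Int.le_of_dvd (h i).1 e).not_gt ((h i).2.trans_le (Int.ofNat_le.2 hb))

theorem lev_G2 {Mx : Matrix (Fin 2) (Fin 2) ℤ} (X : XF hpG2 r k Mx) (hl : l.Prime) (h : 5 ≤ l) : Tor.Lev X.D l :=
  lev_ge X hl 5 (by decide +kernel) h

theorem lev_B2 {Mx : Matrix (Fin 2) (Fin 2) ℤ} (X : XF hpB2 r k Mx) (hl : l.Prime) (h : 3 ≤ l) : Tor.Lev X.D l :=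
  lev_ge X hl 3 (by decide +kernel) h

theorem lev_D4 {Mx : Matrix (Fin 4) (Fin 4) ℤ} (X : XF hpD4 r k Mx) (hl : l.Prime) (h : 3 ≤ l) : Tor.Lev X.D l :=
  lev_ge X hl 3 (by decide +kernel) h

theorem lev_F4 {Mx : Matrix (Fin 4) (Fin 4) ℤ} (X : XF hpF4 r k Mx) (hl : l.Prime) (h : 5 ≤ l) : Tor.Lev X.D l :=
  lev_ge X hl 5 (by decide +kernel) h

theorem lev_E6 {Mx : Matrix (Fin 6) (Fin 6) ℤ} (X : XF hpE6 r k Mx) (hl : l.Prime) (h : 5 ≤ l) : Tor.Lev X.D l :=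
  lev_ge X hl 5 (by decide +kernel) h

theorem lev_E7 {Mx : Matrix (Fin 7) (Fin 7) ℤ} (X : XF hpE7 r k Mx) (hl : l.Prime) (h : 5 ≤ l) : Tor.Lev X.D l :=
  lev_ge X hl 5 (by decide +kernel) h

theorem lev_E8 {Mx : Matrix (Fin 8) (Fin 8) ℤ} (X : XF hpE8 r k Mx) (hl : l.Prime) (h : 7 ≤ l) : Tor.Lev X.D l :=
  lev_ge X hl 7 (by decide +kernel) h

/-- one bad node -/
theorem torB_bad {hp : IsType C n M} {Mx : Matrix (Fin n) (Fin n) ℤ} {X : XF hp r k Mx} {Adm : Matrix (Fin n) (Fin n) ℤ → Prop}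
    {d f : ℕ} {i : Fin n} (s : XS X Adm d S) (hP : PM C n f) (hl : l.Prime) (hr : l ≠ r) (hf : l.Coprime f)
    (hB : Bad C n l i) (hT : TwoC C n l i) (hA : ¬ LV.AbS l S) : TorB X.D l :=
  torB_one (pi1 X hP) hl hr hf (nl_of X hl hB) (two_of X hl hB hT) fun e => hA (LV.AbS.of_inj e _ s.ov.hom_inj)

end

variable [hl : Fact l.Prime] [Finite S]

theorem row_bad {hp : IsType C n M} {Mx : Matrix (Fin n) (Fin n) ℤ} {r : ℕ} [Fact r.Prime] {i : Fin n}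
    (h : Nt.HasNT hp r Mx 1 S) (hr : l ≠ r) (hZ : ZD (l ^ 0) S) (hP : PM C n 1) (hB : Bad C n l i) (hT : TwoC C n l i)
    (hA : ¬ LV.AbS l S) : Row l S := by
  obtain ⟨k, _, _, _, X, -, ⟨s⟩⟩ := h
  exact row_of_zd hZ fun _ hI => kmg_xs s hr not_dvd_one' (torB_bad s hP hl.out hr (Nat.coprime_one_right l) hB hT hA) hI

theorem not_dvd_card {F : Type} [Field F] [Fintype F] (h : (l : F) ≠ 0) : ¬ l ∣ Fintype.card F := fun e => by
  obtain ⟨r, _⟩ := CharP.exists F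
  obtain ⟨m, h1, h2⟩ := FiniteField.card F r
  exact h ((Nat.prime_dvd_prime_iff_eq hl.out h1).1 (hl.out.dvd_of_dvd_pow (h2 ▸ e)) ▸ CharP.cast_eq_zero F r)

theorem odd_cases (h : l ≠ 2) : l = 3 ∨ 5 ≤ l := by
  have h1 := hl.out.two_le
  have h2 : l ≠ 4 := fun e => absurd (e ▸ hl.out) (by decide)
  omega

theorem tx_G2 (h : 5 ≤ l) (B : Matrix (Fin 2) (Fin 2) ℤ) : TX hpG2 B l := fun _ _ _ _ _ _ _ X _ hr =>
  torB_of_lev (pi1 X pm_G2) hl.out hr (Nat.coprime_one_right l) (lev_G2 X hl.out h)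

theorem tx_F4 (h : 5 ≤ l) (B : Matrix (Fin 4) (Fin 4) ℤ) : TX hpF4 B l := fun _ _ _ _ _ _ _ X _ hr =>
  torB_of_lev (pi1 X pm_F4) hl.out hr (Nat.coprime_one_right l) (lev_F4 X hl.out h)

theorem tx_E8 (h : 7 ≤ l) (B : Matrix (Fin 8) (Fin 8) ℤ) : TX hpE8 B l := fun _ _ _ _ _ _ _ X _ hr =>
  torB_of_lev (pi1 X pm_E8) hl.out hr (Nat.coprime_one_right l) (lev_E8 X hl.out h)

theorem tx_D4 (h : l ≠ 2) (B : Matrix (Fin 4) (Fin 4) ℤ) : TX hpD4 B l := fun _ _ _ _ _ _ _ X _ hr =>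
  torB_of_lev (pi1 X pm_D4) hl.out hr ((Nat.coprime_primes hl.out Nat.prime_two).2 h)
    (lev_D4 X hl.out (by have := hl.out.two_le; omega))

theorem tr_ge (h : 5 ≤ l) : TR l := fun _ _ _ _ _ X _ =>
  torB_of_lev (pi1 X pm_F4) hl.out (by omega) (Nat.coprime_one_right l) (lev_F4 X hl.out h)

/-- **`G₂(q)`, odd primes** -/
theorem od_g2 : RowFor (Od CG2) := fun l _ S _ _ _ _ ⟨h2, h⟩ => by
  rcases odd_cases h2 with rfl | h5
  · obtain ⟨r, e, _, hr, -, -, h1⟩ := Nt.row_G2 h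
    obtain ⟨F, _, _, h3, h4, ⟨i⟩⟩ := h
    have h5 := not_dvd_card h3
    obtain h7 | h7 : Fintype.card F = 4 ∨ 5 ≤ Fintype.card F := by omega
    · exact Row.of_equiv i (Xc.row_g24 F h7)
    · exact row_bad h1 hr ((TO.X.zd_G2 h7).congr i) pm_G2 bad_G2 twoC_G2 fun e =>
        H371.HT.not_ab_untw (D := chevG2) (by simp) h5 (LV.AbS.of_inj e i.symm.toMonoidHom i.symm.injective)
  · exact row_g2 (tx_G2 h5 1) (fun _ => xG3 h5) (fun _ => xG4 h5) h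

/-- **`F₄(q)`, odd primes** -/
theorem od_f4 (hx : XF2 3) : RowFor (Od CF4) := fun l _ S _ _ _ _ ⟨h2, h⟩ => by
  rcases odd_cases h2 with rfl | h5
  · obtain ⟨r, e, _, hr, -, h1⟩ := Nt.row_F4 h
    obtain ⟨F, _, _, h3, ⟨i⟩⟩ := h
    by_cases h7 : Fintype.card F = 2
    · exact Row.of_equiv i (hx F h7)
    · exact row_bad h1 hr ((TO.X.zd_F4 h7).congr i) pm_F4 bad_F4 twoC_F4 fun e =>
        H371.HT.not_ab_untw (D := chevF4) (by simp) (not_dvd_card h3) (LV.AbS.of_inj e i.symm.toMonoidHom i.symm.injective)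
  · exact row_f4 (tx_F4 h5 1) (fun _ => xF2 h5) h

/-- **`³D₄(q)`, odd primes** -/
theorem od_td4 : RowFor (Od CTd4) := fun _ _ _ _ _ _ _ ⟨h2, h⟩ => row_td4 (tx_D4 h2 P4) h

/-- **`²F₄(q)`** -/
theorem row_ctf4 : RowFor CTf4 := fun l _ S _ _ _ _ h => by
  rcases odd_cases h.1 with rfl | h5
  · obtain ⟨m, -, k, _, _, _, X, -, ⟨s⟩⟩ := Nt.row_2F4 h.2
    exact row_of_zd (a := 0) (TO.X.zd_iso2F4 h.2) fun _ hI => kmg_xs s h.1 not_dvd_one' (torB_bad s pm_F4 Fact.out h.1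
      (Nat.coprime_one_right 3) bad_F4 twoC_F4 (H371.HT.not_ab_iso2F4 h.2)) hI
  · exact row_tf4 (tr_ge h5) h

/-- **`E₈(q)`, primes `l ≥ 5`** -/
theorem e8_ge (h5 : 5 ≤ l) (h : CE8 l S) : Row l S := by
  obtain rfl | h7 : l = 5 ∨ 7 ≤ l := by
    have h2 : l ≠ 6 := fun e => absurd (e ▸ hl.out) (by decide)
    omega
  · obtain ⟨r, e, _, hr, -, h1⟩ := Nt.row_E8 h
    obtain ⟨F, _, _, h3, ⟨i⟩⟩ := h
    exact row_bad h1 hr (TO.X.zd_E8.congr i) pm_E8 bad_E8 twoC_E8 fun e =>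
      H371.HT.not_ab_e8_five (not_dvd_card h3) (LV.AbS.of_inj e i.symm.toMonoidHom i.symm.injective)
  · exact row_e8 (tx_E8 h7 1) h

/-- **`E₈(q)`, odd primes**, from the prime `3` -/
theorem od_e8' (h3 : ∀ (S : Type) [Group S] [Finite S], CE8 3 S → Row 3 S) : RowFor (Od CE8) := fun l _ S _ _ _ _ ⟨h2, h⟩ => by
  rcases odd_cases h2 with rfl | h5
  exacts [h3 S h, e8_ge h5 h]

theorem od_e8 (h3 : TX hpE8 1 3) : RowFor (Od CE8) :=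
  have : Fact (Nat.Prime 3) := ⟨Nat.prime_three⟩
  od_e8' fun _ _ _ h => row_e8 h3 h

end Cfsg.Agent.KM.Ex
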