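import Cfsg.Agent.KM.Ex.Row
import Cfsg.Agent.KM.Sp.Loc
import Cfsg.Agent.H548.PDich

/-!
# KM, bad primes of the first type: the generic theorem (helper14)

`NL X l` : the `l`-elements of the torus which are not isolated are of Levi type; `Two X l` : no root vanishes on a plane of
isolated elements.  `Gd`, `Gd.insert`, `Gd.conj_le`, `toral_of`, `no_reg`, `torB_one`.
-/

set_option autoImplicit false
set_option linter.unusedSectionVars false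

namespace Cfsg.Agent.KM.Ex

open Cfsg Cfsg.Agent.DL Cfsg.Agent.Nodes.Reps Cfsg.Agent.Nodes.BNOf Matrix Subgroup Cfsg.Agent.KM.Ht Cfsg.Agent.KM.Tor
open Cfsg.Agent.TO.X.Cn (Pi1 exists_exp χ_exp χ_pow mem_cen comm_exp ppr_ord rp_pow)

variable {p : ℕ} [Fact p.Prime] {k : Type} [Field k] [CharP k p] {Y : Type} [Group Y] {N : Type} [Fintype N]
  [DecidableEq N] {ρ : Y →* GL N k} {F : MulAut Y} {G : Subgroup Y} [IsAlgClosed k] (X : Datum p ρ F G)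

/-- `Z` is not isolated -/
def Ni (Z : Set Y) : Prop := ∃ v : X.R → ℤ, v ≠ 0 ∧ ∀ a ∈ X.Sz Z, X.wt a ⬝ᵥ v = 0

/-- the elements which are not isolated are of Levi type -/
def NL (l : ℕ) : Prop := ∀ (j : ℕ) (u v : X.R → ℤ), v ≠ 0 →
  (∀ a, X.Rt a → (l : ℤ) ^ j ∣ X.wt a ⬝ᵥ u → X.wt a ⬝ᵥ v = 0) → Lv X ((l : ℤ) ^ j) u

/-- an isolated element of order `l` -/
def Is (l : ℕ) (u : X.R → ℤ) : Prop :=
  (∀ v, (∀ a, X.Rt a → (l : ℤ) ∣ X.wt a ⬝ᵥ u → X.wt a ⬝ᵥ v = 0) → v = 0) ∧ ¬ ∀ r, (l : ℤ) ∣ u r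

/-- no root vanishes on a plane of isolated elements -/
def Two (l : ℕ) : Prop := ∀ u u' : X.R → ℤ, (∀ i j : ℤ, ¬ ((l : ℤ) ∣ i ∧ (l : ℤ) ∣ j) → Is X l (i • u + j • u')) →
  ∀ a, X.Rt a → (l : ℤ) ∣ X.wt a ⬝ᵥ u → ¬ (l : ℤ) ∣ X.wt a ⬝ᵥ u'

/-- a good subset of the torus -/
structure Gd (Z : Set Y) : Prop where
  le : Z ⊆ X.T
  qc : QC X Z
  cc : CC X Z
  ni : Ni X Z

variable {X} {f l : ℕ} {Z S : Set Y} {t : Y}

theorem Ni.mono (h : Ni X Z) (h1 : X.Sz S ⊆ X.Sz Z) : Ni X S := h.imp fun _ h => ⟨h.1, fun a ha => h.2 a (h1 ha)⟩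

theorem conj_pow_eq {g z : Y} {n : ℕ} (h : z ^ n = 1) : (g⁻¹ * z * g) ^ n = 1 := by
  rw [← inv_inv g, inv_inv g⁻¹, conj_pow, h, mul_one, mul_inv_cancel]

theorem sz_conj {y : Y} (hy : y ∈ G) (hN : y⁻¹ * F y ∈ X.NN) (h : y⁻¹ * t * y ∈ X.T) :
    (X.conj hy hN).Sz {t} = X.Sz {y⁻¹ * t * y} := by
  have h1 := fun a => X.conj_χ hy hN a h
  rw [show y * (y⁻¹ * t * y) * y⁻¹ = t by group] at h1
  exact Set.ext fun a => and_congr_right fun _ => by simp only [Set.mem_singleton_iff, forall_eq, h1]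

theorem cen_le_T (h : X.Sz Z = ∅) : X.cen Z ≤ X.T := sup_le le_rfl (h ▸ RGD.Sup_le fun _ h => h.elim)

theorem NL.mem_Z0 (hl : l.Prime) (hL : NL X l) (ht : t ∈ X.T) {j : ℕ} (h1 : t ^ l ^ j = 1) (h : Ni X {t}) : t ∈ Z0 X {t} := by
  obtain ⟨ζ, u, -, h2, rfl⟩ := exists_exp X ht
  obtain ⟨i, -, hi⟩ := (Nat.dvd_prime_pow hl).1 (h2.trans (orderOf_dvd_of_pow_eq_one h1))
  obtain ⟨v, h3, h4⟩ := h
  refine Lv.mem_Z0 ?_
  rw [hi, Nat.cast_pow]
  exact hL i u v h3 fun a ha e => h4 a ⟨ha, fun _ hz => hz ▸ (χ_exp X a u ζ).2 (by rwa [hi, Nat.cast_pow])⟩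

section

variable (h : Pi1 X f) (hl : l.Prime) (hp : l ≠ p) (hf : l.Coprime f) (hL : NL X l)
include h hl hp hf hL

theorem gd_single (ht : t ∈ X.T) {j : ℕ} (h1 : t ^ l ^ j = 1) (h2 : Ni X {t}) : Gd X {t} :=
  ⟨Set.singleton_subset_iff.2 ht, qc_of_le (Set.singleton_subset_iff.2 (hL.mem_Z0 hl ht h1 h2)),
    fun _ hy hc => mem_cen h ht h1 (hf.pow_left j) hy (mem_centralizer_singleton_iff.1 hc), h2⟩

/-- **the step** -/
theorem Gd.insert (hG : Gd X Z) (ht : t ∈ X.T) {j : ℕ} (h1 : t ^ l ^ j = 1) :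
    Gd X (insert t Z) ∧ t ∈ Z0 X (insert t Z) := by
  obtain ⟨s, a1, ⟨i, a2⟩, a3⟩ := exists_one hl hp hG.qc ht h1
  have h2 := Sz_anti (X := X) (Set.subset_insert t Z)
  have h3 := hL.mem_Z0 hl (mul_mem ht (Z0_le_T X Z a1)) a2 (hG.ni.mono (a3 ▸ h2))
  obtain ⟨v, hv⟩ := qc_of_le (Set.singleton_subset_iff.2 h3)
  refine ⟨⟨Set.insert_subset ht hG.le, ⟨v, a3 ▸ hv⟩, hG.cc.insert h hf ht a1 a2 a3, hG.ni.mono h2⟩, ?_⟩
  simpa using mul_mem (Z0_mono a3.ge h3) (inv_mem (Z0_mono h2 a1))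

theorem Gd.union (hG : Gd X S) (hfin : Z.Finite) (hZ : Z ⊆ X.T) (he : El l Z) : Gd X (Z ∪ S) := by
  induction Z, hfin using Set.Finite.induction_on with
  | empty => rwa [Set.empty_union]
  | @insert t Z _ _ ih =>
    obtain ⟨j, hj⟩ := he t (Set.mem_insert _ _)
    rw [Set.insert_union]
    exact ((ih ((Set.subset_insert _ _).trans hZ) fun z hz => he z (Set.mem_insert_of_mem _ hz)).insert h hl hp hf hL
      (hZ (Set.mem_insert _ _)) hj).1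

theorem Gd.conj_le (hG : Gd X S) (hS : S.Finite) (hfin : Z.Finite) (hZ : Z ⊆ G) (he : El l Z)
    (hc : ∀ a ∈ Z, ∀ b ∈ Z, a * b = b * a) (hc' : ∀ a ∈ Z, a ∈ centralizer S) :
    ∃ g ∈ G, g ∈ centralizer S ∧ ∀ z ∈ Z, g⁻¹ * z * g ∈ X.T := by
  induction Z, hfin using Set.Finite.induction_on with
  | empty => exact ⟨1, one_mem _, one_mem _, fun _ h => h.elim⟩
  | @insert t Z _ hfin ih =>
    obtain ⟨g, hg, h0, h1⟩ := ih ((Set.subset_insert _ _).trans hZ) (fun z hz => he z (Set.mem_insert_of_mem _ hz))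
      (fun a ha b hb => hc a (Set.mem_insert_of_mem _ ha) b (Set.mem_insert_of_mem _ hb))
      fun a ha => hc' a (Set.mem_insert_of_mem _ ha)
    have h2 : (fun z => g⁻¹ * z * g) '' Z ⊆ X.T := fun _ ⟨z, hz, e⟩ => e ▸ h1 z hz
    have h5 := hG.union h hl hp hf hL (hfin.image _) h2 fun _ ⟨z, hz, e'⟩ =>
      e' ▸ (he z (Set.mem_insert_of_mem _ hz)).imp fun _ => conj_pow_eq
    obtain ⟨j, hj⟩ := he t (Set.mem_insert _ _)
    obtain ⟨c, h3, h4⟩ := toral_cen h5.le ((hfin.image _).union hS) (y := g⁻¹ * t * g)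
      (h5.cc _ (mul_mem (mul_mem (inv_mem hg) (hZ (Set.mem_insert _ _))) hg) (by
        rintro _ (⟨z, hz, rfl⟩ | hs)
        · calc g⁻¹ * z * g * (g⁻¹ * t * g) = g⁻¹ * (z * t) * g := by group
            _ = _ := by rw [hc z (Set.mem_insert_of_mem _ hz) t (Set.mem_insert _ _)]; group
        · exact mul_mem (mul_mem (inv_mem h0) (hc' t (Set.mem_insert _ _))) h0 _ hs)) (not_dvd_ord hl hp (conj_pow_eq hj))
    have h6 := X.cen_le_centralizer h5.le h3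
    refine ⟨g * c, mul_mem hg (X.cen_le_G _ h3), mul_mem h0 fun s hs => h6 s (.inr hs), ?_⟩
    rintro z (rfl | hz)
    · rwa [show (g * c)⁻¹ * z * (g * c) = c⁻¹ * (g⁻¹ * z * g) * c by group]
    · rw [show (g * c)⁻¹ * z * (g * c) = c⁻¹ * (g⁻¹ * z * g * c) by group, h6 _ (.inl ⟨z, hz, rfl⟩), inv_mul_cancel_left]
      exact h1 z hz

/-- **a set with an element which is not isolated** -/
theorem toral_of {D : Subgroup Y} (hfin : (D : Set Y).Finite) (hG : D ≤ G) (hF : ∀ z ∈ D, F z ∈ D) (he : El l (D : Set Y))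
    (hc : ∀ a ∈ D, ∀ b ∈ D, a * b = b * a) (ht : t ∈ D) {g : Y} (hg : g ∈ G) (h1 : g⁻¹ * t * g ∈ X.T)
    (h2 : Ni X {g⁻¹ * t * g}) : Toral X D := by
  obtain ⟨j, hj⟩ := he t ht
  have e : ∀ a ∈ D, ∀ b ∈ D, g⁻¹ * a * g * (g⁻¹ * b * g) = g⁻¹ * b * g * (g⁻¹ * a * g) := fun a ha b hb =>
    calc _ = g⁻¹ * (a * b) * g := by group
      _ = _ := by rw [hc a ha b hb]; group
  obtain ⟨c, h3, h4, h5⟩ := (gd_single h hl hp hf hL h1 (conj_pow_eq hj) h2).conj_le h hl hp hf hL (Set.finite_singleton _)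
    (hfin.image fun z => g⁻¹ * z * g) (fun _ ⟨z, hz, e⟩ => e ▸ mul_mem (mul_mem (inv_mem hg) (hG hz)) hg)
    (fun _ ⟨z, hz, e⟩ => e ▸ (he z hz).imp fun _ => conj_pow_eq)
    (fun _ ⟨a, ha, e1⟩ _ ⟨b, hb, e2⟩ => e1 ▸ e2 ▸ e a ha b hb)
    fun _ ⟨a, ha, e1⟩ => e1 ▸ mem_centralizer_singleton_iff.2 (e a ha t ht)
  obtain ⟨y, hy, hN, h6, h7⟩ := SB.Exc.Max.exists_conj_le_T X hF (mul_mem hg h3) fun z hz => by
    rw [show (g * c)⁻¹ * z * (g * c) = c⁻¹ * (g⁻¹ * z * g) * c by group]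
    exact h5 _ ⟨z, hz, rfl⟩
  have h8 : y⁻¹ * t * y = g⁻¹ * t * g := by
    rw [h7 t ht, show (g * c)⁻¹ * t * (g * c) = c⁻¹ * (g⁻¹ * t * g * c) by group, h4 _ rfl, inv_mul_cancel_left]
  have h9 := (gd_single (h.conj hy hN) hl hp hf hL (h6 ht) hj
    (h2.imp fun v hv => ⟨hv.1, by rw [sz_conj hy hN (h8 ▸ h1), h8]; exact hv.2⟩)).union (h.conj hy hN) hl hp hf hL hfin h6 he
  rw [Set.union_eq_self_of_subset_right (Set.singleton_subset_iff.2 ht)] at h9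
  refine ⟨y, hy, hN, fun d hd => ?_⟩
  obtain ⟨i, hi⟩ := he d hd
  simpa only [Set.insert_eq_of_mem hd] using (h9.insert (h.conj hy hN) hl hp hf hL (h6 hd) hi).2

/-- the Weyl group elements which fix a regular set have no fixed vector -/
theorem fix_zero (hfin : Z.Finite) (hZ : Z ⊆ X.T) (he : El l Z) (h0 : X.Sz Z = ∅) {u : Y} {w : X.W} (hu : X.Rp w u)
    (hc : u ∈ centralizer Z) (hT : u ∉ X.T) {v : X.R → ℤ} (hv : X.Wm w *ᵥ v = v) : v = 0 := by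
  classical
  by_contra h1
  obtain ⟨i, hi⟩ : ∃ i : ℕ, ∀ a, X.Rt a → (X.wt a ⬝ᵥ v).natAbs < l ^ i :=
    ⟨∑ a ∈ X.finite_roots.toFinset, (X.wt a ⬝ᵥ v).natAbs, fun a ha => lt_of_le_of_lt (Finset.single_le_sum
      (f := fun a => (X.wt a ⬝ᵥ v).natAbs) (fun _ _ => Nat.zero_le _) (X.finite_roots.mem_toFinset.2 ha))
      (Nat.lt_pow_self hl.one_lt)⟩
  obtain ⟨ζ, hζ⟩ := exists_prim p k (n := l ^ i) fun h =>
    hp ((Nat.prime_dvd_prime_iff_eq Fact.out hl).1 ((Fact.out : p.Prime).dvd_of_dvd_pow h)).symm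
  have h2 := (gd_single h hl hp hf hL (X.τ_mem (coch v ζ)) (j := i)
    (by rw [← map_pow, ← map_pow, ← hζ, pow_orderOf_eq_one, map_one, map_one]) ⟨v, h1, fun a ha => by
      have h3 := (χ_exp X a v ζ).1 (ha.2 _ rfl)
      rw [hζ, Int.natCast_dvd] at h3
      exact Int.natAbs_eq_zero.1 (Nat.eq_zero_of_dvd_of_lt h3 (hi a ha.1))⟩).union h hl hp hf hL hfin hZ he
  refine hT (cen_le_T (Set.eq_empty_of_subset_empty (h0 ▸ Sz_anti Set.subset_union_left)) (h2.cc u hu.mem_G ?_))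
  rintro z (hz | rfl)
  · exact hc z hz
  · rw [eq_comm, ← mul_inv_eq_iff_eq_mul, X.conj_τ hu, mon_coch]
    exact congrArg (fun x => X.τ (coch x ζ)) hv

/-- **no regular elements in the centraliser** -/
theorem no_reg (hfin : Z.Finite) (hZ : Z ⊆ X.T) (he : El l Z) (h0 : X.Sz Z = ∅) {u : Y} (hu : u ∈ G)
    (hc : u ∈ centralizer Z) (hT : u ∉ X.T) {j : ℕ} (hj : u ^ l ^ j = 1) {g : Y} (hg : g ∈ G) (h1 : g ∈ centralizer Z)
    (h2 : u * g = g * u) (h3 : ¬ l ∣ orderOf g) : g = 1 := by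
  obtain ⟨c, h4, m, ⟨w, hm⟩, -, e⟩ := X.exists_cen_form hZ hu hc
  rw [h0] at h4
  rw [mem_bot.1 ((RGD.Sup_le fun _ h => h.elim) h4), one_mul] at e
  subst e
  obtain ⟨ζ, x, -, h5, rfl⟩ := exists_exp X (cen_le_T h0 (ppr_ord X hl hZ he hg h1 h3))
  have h7 : w ^ l ^ j = 1 := X.rp_unique (rp_pow X hm _) (hj ▸ rp_one)
  have h8 : ∀ n : ℕ, ∀ r, (orderOf ζ : ℤ) ∣ (X.Wm (w ^ n) *ᵥ x) r - x r := fun n =>
    comm_exp X (rp_pow X hm n) (pow_mem (mem_centralizer_singleton_iff.2 h2) n)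
  have h9 := fix_zero h hl hp hf hL hfin hZ he h0 hm hc hT (v := ∑ n ∈ Finset.range (l ^ j), X.Wm (w ^ n) *ᵥ x) (by
    have h9 := Finset.sum_range_succ (fun n => X.Wm (w ^ n) *ᵥ x) (l ^ j)
    rw [Finset.sum_range_succ', h7, pow_zero, add_left_inj] at h9
    rw [mulVec_sum]
    exact Eq.trans (Finset.sum_congr rfl fun n _ => by rw [mulVec_mulVec, ← X.Wm_mul, pow_succ']) h9)
  rw [← map_one X.τ]
  refine congrArg _ (funext fun r => orderOf_dvd_iff_zpow_eq_one.1 ?_)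
  have h10 := Finset.dvd_sum (s := Finset.range (l ^ j)) fun n _ => h8 n r
  rw [Finset.sum_sub_distrib, ← Finset.sum_apply, h9, Finset.sum_const, Finset.card_range, nsmul_eq_mul, Pi.zero_apply,
    zero_sub, dvd_neg] at h10
  exact (Nat.isCoprime_iff_coprime.2 ((hl.coprime_iff_not_dvd.2 fun e => h3 (e.trans h5)).pow_left j).symm).dvd_of_dvd_mul_left h10

end

theorem indep {A : Type*} [Group A] (hl : l.Prime) {z t : A} (hz : z ^ l = 1) (h1 : z ≠ 1) (ht : t ^ l = 1)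
    (h2 : t ∉ zpowers z) {i j : ℤ} (h : z ^ i * t ^ j = 1) : (l : ℤ) ∣ i ∧ (l : ℤ) ∣ j := by
  have := Fact.mk hl
  have h3 : (l : ℤ) ∣ j := by
    by_contra h3
    obtain ⟨a, b, e⟩ := (Nat.prime_iff_prime_int.1 hl).coprime_iff_not_dvd.2 h3
    refine h2 ?_
    rw [← zpow_one t, ← e, _root_.zpow_add, mul_comm a, _root_.zpow_mul, zpow_natCast, ht, _root_.one_zpow, one_mul,
      mul_comm b, _root_.zpow_mul, eq_inv_of_mul_eq_one_right h]
    exact zpow_mem (inv_mem (zpow_mem (mem_zpowers z) i)) b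
  obtain ⟨b, rfl⟩ := h3
  rw [_root_.zpow_mul, zpow_natCast, ht, _root_.one_zpow, mul_one, ← orderOf_dvd_iff_zpow_eq_one, orderOf_eq_prime hz h1] at h
  exact ⟨h, dvd_mul_right _ _⟩

theorem exists_coch {ζ : kˣ} (hζ : orderOf ζ = l) (hl : l.Prime) (ht : t ∈ X.T) (h : t ^ l = 1) : ∃ u, t = X.τ (coch u ζ) := by
  obtain ⟨c, rfl⟩ := (X.mem_T t).1 ht
  have : NeZero l := ⟨hl.ne_zero⟩
  have hc : c ^ l = 1 := X.τ_inj (by rw [map_pow, h, map_one])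
  choose x _ hx using fun i => (hζ ▸ IsPrimitiveRoot.orderOf ζ).eq_pow_of_mem_rootsOfUnity (ξ := c i) (congrFun hc i)
  exact ⟨fun i => x i, congrArg _ (funext fun i => by rw [coch_apply, zpow_natCast, hx])⟩

theorem sz_empty (hl : l.Prime) (hp : l ≠ p) (hT : Two X l) {z : Y} (hz : z ∈ X.T) (ht : t ∈ X.T) (h1 : z ^ l = 1) (h2 : z ≠ 1)
    (h3 : t ^ l = 1) (h4 : t ∉ zpowers z) (h5 : ∀ i j : ℤ, ¬ Ni X {z ^ i * t ^ j}) : X.Sz {z, t} = ∅ := by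
  obtain ⟨ζ, hζ⟩ := exists_prim p k (n := l) fun h => hp ((Nat.prime_dvd_prime_iff_eq Fact.out hl).1 h).symm
  obtain ⟨u, rfl⟩ := exists_coch hζ hl hz h1
  obtain ⟨u', rfl⟩ := exists_coch hζ hl ht h3
  have e : ∀ i j : ℤ, X.τ (coch u ζ) ^ i * X.τ (coch u' ζ) ^ j = X.τ (coch (i • u + j • u') ζ) := fun i j => by
    rw [coch_add, coch_zsmul, coch_zsmul, map_mul, map_zpow, map_zpow, map_zpow, map_zpow]
  refine Set.eq_empty_of_forall_notMem fun a ha => hT u u' (fun i j hij => ⟨fun v hv => by_contra fun h6 => h5 i j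
    ⟨v, h6, fun b hb => hv b hb.1 (hζ ▸ (χ_exp X b _ ζ).1 (e i j ▸ hb.2 _ rfl))⟩, fun h6 => hij (indep hl h1 h2 h3 h4 ?_)⟩) a ha.1
    (hζ ▸ (χ_exp X a u ζ).1 (ha.2 _ (.inl rfl))) (hζ ▸ (χ_exp X a u' ζ).1 (ha.2 _ (.inr rfl)))
  rw [e, ← map_one X.τ]
  exact congrArg _ (funext fun r => orderOf_dvd_iff_zpow_eq_one.1 (hζ ▸ h6 r))

/-- **Bad primes of the first type.** -/
theorem torB_one (h : Pi1 X f) (hl : l.Prime) (hp : l ≠ p) (hf : l.Coprime f) (hL : NL X l) (hT : Two X l)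
    (hA : ¬ LV.AbS l ↥(GF F G)) : TorB X l := by
  intro M B D hM hB hD hab hnc _
  have := X.amb.finite_GF G
  have := Fact.mk hl
  have H := Sp.locA_of_block hM hB hD hab
  have hfin : ((D.map (GF F G).subtype : Subgroup Y) : Set Y).Finite := (Set.toFinite (D : Set ↥(GF F G))).image _
  have hG : D.map (GF F G).subtype ≤ G := fun _ ⟨z, _, e⟩ => e ▸ z.2.1
  have hF : ∀ z ∈ D.map (GF F G).subtype, F z = z := fun _ ⟨z, _, e⟩ => e ▸ z.2.2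
  have he : El l (D.map (GF F G).subtype : Set Y) := fun _ ⟨z, hz, e⟩ =>
    (H.pelt hz).imp fun _ hj => e ▸ congrArg Subtype.val hj
  have hc : ∀ a ∈ D.map (GF F G).subtype, ∀ b ∈ D.map (GF F G).subtype, a * b = b * a :=
    fun _ ⟨a, ha, e⟩ _ ⟨b, hb, e'⟩ => e ▸ e' ▸ congrArg Subtype.val (H.ab a ha b hb)
  refine .inl (by_contra fun hn => ?_)
  have h1 := fun t ht g hg h1 h2 =>
    hn (toral_of (t := t) (g := g) h hl hp hf hL hfin hG (fun z hz => (hF z hz).symm ▸ hz) he hc ht hg h1 h2)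
  have : IsMulCommutative (⊤ : Subgroup D) := ⟨⟨fun a b => Subtype.ext (hab.1.1 a.1 b.1)⟩⟩
  obtain ⟨z, t, -, z1, z2, t1, t2, -⟩ := H548.PDich.exists_zw H.pg ⊤ this fun e => hnc (Subgroup.topEquiv.isCyclic.1 e)
  let ι : D →* Y := (GF F G).subtype.comp D.subtype
  have hι : Function.Injective ι := Subtype.val_injective.comp Subtype.val_injective
  have m : ∀ d : D, ι d ∈ D.map (GF F G).subtype := fun d => ⟨d, d.2, rfl⟩
  have z3 : ι z ^ l = 1 := by rw [← map_pow, z1, map_one]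
  have t3 : ι t ^ l = 1 := by rw [← map_pow, t1, map_one]
  obtain ⟨g, hg, h2⟩ := toral_cen (X := X) (Set.empty_subset _) Set.finite_empty (cc_empty _ (hG (m z)) fun _ h => h.elim)
    (not_dvd_ord hl hp (j := 1) (by rwa [pow_one]))
  replace hg := X.cen_le_G _ hg
  obtain ⟨c, hc1, h3⟩ := toral_cen (Set.singleton_subset_iff.2 h2) (Set.finite_singleton _) (y := g⁻¹ * ι t * g)
    (mem_cen h h2 (conj_pow_eq z3) hf (mul_mem (mul_mem (inv_mem hg) (hG (m t))) hg) (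
      calc _ = g⁻¹ * (ι t * ι z) * g := by group
        _ = _ := by rw [hc _ (m t) _ (m z)]; group)) (not_dvd_ord hl hp (j := 1) (by rw [pow_one]; exact conj_pow_eq t3))
  obtain ⟨y, hy, hN, h4, -⟩ := SB.Exc.Max.exists_conj_le_T X (Z := {ι z, ι t}) (by
      rintro _ (rfl | rfl)
      · exact .inl (hF _ (m z))
      · exact .inr (hF _ (m t))) (mul_mem hg (X.cen_le_G _ hc1)) (by
      rintro _ (rfl | rfl)
      · rwa [show (g * c)⁻¹ * ι z * (g * c) = c⁻¹ * (g⁻¹ * ι z * g * c) by group,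
          X.cen_le_centralizer (Set.singleton_subset_iff.2 h2) hc1 _ rfl, inv_mul_cancel_left]
      · rwa [show (g * c)⁻¹ * ι t * (g * c) = c⁻¹ * (g⁻¹ * ι t * g) * c by group])
  have h5 := sz_empty (X := X.conj hy hN) hl hp hT (h4 (.inl rfl)) (h4 (.inr rfl)) z3 (fun e => z2 (hι (e.trans ι.map_one.symm)))
    t3 (fun ⟨n, e⟩ => t2 ⟨n, hι ((map_zpow ι z n).trans e)⟩) fun i j e => by
      have h5 := mem_cj.1 (mul_mem (zpow_mem (h4 (.inl rfl)) i) (zpow_mem (h4 (.inr rfl)) j))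
      exact h1 _ (mul_mem (zpow_mem (m z) i) (zpow_mem (m t) j)) y hy h5
        (e.imp fun v hv => ⟨hv.1, sz_conj hy hN h5 ▸ hv.2⟩)
  have h6 : ({ι z, ι t} : Set Y) ⊆ D.map (GF F G).subtype := by
    rintro _ (rfl | rfl)
    exacts [m z, m t]
  by_cases h7 : ∀ d ∈ D.map (GF F G).subtype, d ∈ (X.conj hy hN).T
  · refine hn ⟨y, hy, hN, fun d hd => ?_⟩
    obtain ⟨ζ, v, -, -, e⟩ := exists_exp _ (h7 d hd)
    exact e ▸ Ht.mem_Z0 (fun b hb => (h5.subset (Sz_anti h6 hb)).elim) ζ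
  push Not at h7
  obtain ⟨u, hu, h7⟩ := h7
  obtain ⟨j, hj⟩ := he u hu
  obtain ⟨s, s1, s2, s3⟩ := H.syl
  have s4 : ∀ d ∈ D.map (GF F G).subtype, d * s = s * d := fun _ ⟨d, hd, e⟩ => e ▸ congrArg Subtype.val (s2 d hd)
  have s5 : s = 1 := Subtype.ext (no_reg (h.conj hy hN) hl hp hf hL (Set.toFinite _) h4 (fun z hz => he z (h6 hz)) h5 (hG hu)
    (fun z hz => hc z (h6 hz) u hu) h7 hj s.2.1 (fun z hz => s4 z (h6 hz)) (s4 u hu) (by rwa [orderOf_coe]))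
  exact hA (H.abS fun P hP hle => s3 P hP hle fun x _ => s5 ▸ Commute.one_right x)

end Cfsg.Agent.KM.Ex
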